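import Groth.Agent.FibTop.Props
import Groth.Agent.FlatOpen.FibreMapAt
import Groth.Agent.LimTop.Cons
import Groth.Agent.FDesc.ProConsClosure

/-!
Isomorphisms of fibres: base change, the fibrewise criterion, openness.
-/

set_option autoImplicit false
set_option backward.isDefEq.respectTransparency false

universe u

open CategoryTheory CategoryTheory.Limits AlgebraicGeometry Topology Set

namespace Groth.Agent.PurIso

variable {X Y S X' Y' S' : Scheme.{u}} {f : X ⟶ Y} {g : Y ⟶ S} {f' : X' ⟶ Y'} {g' : Y' ⟶ S'}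
  {eX : X' ⟶ X} {eY : Y' ⟶ Y} {σ : S' ⟶ S}

/-- A fibre map of a base change is a base change of a fibre map. -/
lemma exists_isPullback_fmap (w : g' ≫ σ = eY ≫ g) (sqX : IsPullback eX f' f eY) (s : S') :
    ∃ r, IsPullback r (MoreMor.fiberMap f' g' s) (MoreMor.fiberMap f g (σ s))
      (pullback.map _ _ _ _ eY (Spec.map (σ.residueFieldMap s)) σ w (by simp) :
        g'.fiber s ⟶ g.fiber (σ s)) := by
  set j : g'.fiber s ⟶ g.fiber (σ s) :=
    pullback.map _ _ _ _ eY (Spec.map (σ.residueFieldMap s)) σ w (by simp) with hj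
  have hjι : j ≫ g.fiberι (σ s) = g'.fiberι s ≫ eY := pullback.lift_fst _ _ _
  have sq0 := ConsPropLib.isPullback_fiberMap f g (σ s)
  have sq1 : IsPullback ((f' ≫ g').fiberι s ≫ eX) (MoreMor.fiberMap f' g' s) f
      (g'.fiberι s ≫ eY) := (ConsPropLib.isPullback_fiberMap f' g' s).paste_horiz sqX
  rw [← hjι] at sq1
  exact ⟨sq0.lift ((f' ≫ g').fiberι s ≫ eX) (MoreMor.fiberMap f' g' s ≫ j)
    (by rw [Category.assoc (MoreMor.fiberMap f' g' s)]; exact sq1.w),
    IsPullback.of_right (by simpa using sq1) (by simp) sq0⟩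

lemma isIso_fmap_of_isIso (w : g' ≫ σ = eY ≫ g) (sqX : IsPullback eX f' f eY) (s : S')
    (h : IsIso (MoreMor.fiberMap f g (σ s))) : IsIso (MoreMor.fiberMap f' g' s) := by
  obtain ⟨r, hr⟩ := exists_isPullback_fmap w sqX s
  exact MorphismProperty.of_isPullback (P := MorphismProperty.isomorphisms Scheme.{u}) hr h

lemma isIso_fmap_of_baseChange (sqY : IsPullback eY g' g σ) (sqX : IsPullback eX f' f eY) (s : S')
    (h : IsIso (MoreMor.fiberMap f' g' s)) : IsIso (MoreMor.fiberMap f g (σ s)) := by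
  obtain ⟨r, hr⟩ := exists_isPullback_fmap sqY.w.symm sqX s
  have hK := isPullback_fiberToSpecResidueField_of_isPullback sqY s
  haveI : Surjective (Spec.map (σ.residueFieldMap s)) :=
    ⟨fun t => ⟨Classical.arbitrary _, Subsingleton.elim _ _⟩⟩
  have hfpqc : (@Surjective ⊓ @Flat ⊓ @QuasiCompact : MorphismProperty Scheme.{u})
      (pullback.map _ _ _ _ eY (Spec.map (σ.residueFieldMap s)) σ sqY.w.symm (by simp) :
        g'.fiber s ⟶ g.fiber (σ s)) :=
    ⟨⟨MorphismProperty.of_isPullback (P := @Surjective) hK.flip inferInstance,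
      MorphismProperty.of_isPullback (P := @Flat) hK.flip inferInstance⟩,
      MorphismProperty.of_isPullback (P := @QuasiCompact) hK.flip inferInstance⟩
  exact MorphismProperty.DescendsAlong.of_isPullback
    (P := MorphismProperty.isomorphisms Scheme.{u})
    (Q := @Surjective ⊓ @Flat ⊓ @QuasiCompact) hr.flip hfpqc h

section

variable (f g) [LocallyOfFiniteType g] [Flat (f ≫ g)] [LocallyOfFinitePresentation (f ≫ g)]

lemma exists_etale_nhd (x : X) (h : IsIso (MoreMor.fiberMap f g (g (f x)))) :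
    ∃ U : X.Opens, x ∈ U ∧ Etale (U.ι ≫ f) := by
  haveI := h
  refine (FlatOpen.FibreMapAt.etaleAt_iff f g x (Flat.stalkMap _ _) ((f ≫ g).asFiber x)
    ((f ≫ g).fiberι_asFiber x)).2 ⟨⊤, trivial, inferInstance⟩

/-- A morphism of flat schemes which is an isomorphism on all fibres is an isomorphism. -/
theorem isIso_of_forall_fmap (h : ∀ s : S, IsIso (MoreMor.fiberMap f g s)) : IsIso f := by
  have he : Etale f := (EtStruct.iff_forall_exists_nhd @Etale.{u} f).2 fun x =>
    exists_etale_nhd f g x (h _)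
  rw [FibTop.isIso_iff]
  refine ⟨he, ?_, fun y => ?_⟩
  · rw [UniversallyInjective.iff_diagonal, surjective_iff]
    intro z
    haveI := h ((pullback.fst f f ≫ f ≫ g) z)
    exact (EGA43Fib.universallyInjective_fmap_iff f g _).1
      (inferInstanceAs (UniversallyInjective (MoreMor.fiberMap f g ((pullback.fst f f ≫ f ≫ g) z))))
      (show z ∈ _ ⁻¹' {(pullback.fst f f ≫ f ≫ g) z} from rfl)
  · haveI := h (g y)
    exact (EGA43Fib.surjective_fmap_iff f g (g y)).1
      ((MoreMor.fiberMap f g (g y)).surjective) (show y ∈ g ⁻¹' {g y} from rfl)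

end

set_option maxHeartbeats 400000 in
/-- For proper families the set of points whose fibre map is an isomorphism is open. -/
theorem isOpen_isoLocus (f : X ⟶ Y) (g : Y ⟶ S) [Flat (f ≫ g)] [LocallyOfFinitePresentation (f ≫ g)]
    [IsProper g] [IsProper (f ≫ g)] :
    IsOpen {s : S | IsIso (MoreMor.fiberMap f g s)} := by
  haveI : IsProper f := IsProper.of_comp f g
  rw [isOpen_iff_forall_mem_open]
  intro s hs
  let U : X.Opens := sSup {U : X.Opens | Etale (U.ι ≫ f)}
  have hUs : ∀ x, (f ≫ g) x = s → x ∈ U := fun x hx => by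
    obtain ⟨W, hxW, hW⟩ := exists_etale_nhd f g x (by subst hx; exact hs)
    exact TopologicalSpace.Opens.mem_sSup.2 ⟨W, hW, hxW⟩
  have hUe : Etale (U.ι ≫ f) := by
    refine (EtStruct.iff_forall_exists_nhd @Etale.{u} (U.ι ≫ f)).2 fun x => ?_
    obtain ⟨(W : X.Opens), hW, hxW⟩ := TopologicalSpace.Opens.mem_sSup.1 x.2
    refine ⟨U.ι ⁻¹ᵁ W, hxW, ?_⟩
    have hle : W ≤ U := le_sSup hW
    haveI : Etale (W.ι ≫ f) := hW
    let k : (U.ι ⁻¹ᵁ W : U.toScheme.Opens).toScheme ⟶ W.toScheme :=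
      IsOpenImmersion.lift W.ι ((U.ι ⁻¹ᵁ W).ι ≫ U.ι) (by
        rintro _ ⟨z, rfl⟩
        rw [Scheme.Opens.range_ι]; exact z.2)
    have hk : k ≫ W.ι = (U.ι ⁻¹ᵁ W).ι ≫ U.ι := IsOpenImmersion.lift_fac _ _ _
    haveI : IsOpenImmersion (k ≫ W.ι) := by rw [hk]; infer_instance
    haveI : IsOpenImmersion k := IsOpenImmersion.of_comp k W.ι
    rw [← Category.assoc, ← hk, Category.assoc]
    infer_instance
  -- avoid the bad images
  let A : Set S := (f ≫ g) '' (U : Set X)ᶜ
  have hA : IsClosed A := (f ≫ g).isClosedMap _ U.2.isClosed_compl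
  let V₁ : S.Opens := ⟨Aᶜ, hA.isOpen_compl⟩
  have hsA : s ∈ V₁ := fun ⟨x, hx, hxs⟩ => hx (hUs x hxs)
  let j : (U : X.Opens).toScheme ⟶ X := U.ι
  haveI : Etale (j ≫ f) := hUe
  -- the diagonal is open over `U`
  let p : pullback f f ⟶ S := pullback.fst f f ≫ f ≫ g
  haveI : IsProper p := inferInstanceAs (IsProper (pullback.fst f f ≫ f ≫ g))
  let O : Set ↥(pullback f f) :=
    pullback.diagonal f '' (U : Set X)
  have hO : IsOpen O := by
    haveI : IsOpenImmersion (pullback.diagonal (j ≫ f)) := inferInstance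
    let m : pullback (j ≫ f) (j ≫ f) ⟶ pullback f f :=
      pullback.map _ _ _ _ j j (𝟙 Y) (by simp) (by simp)
    haveI : IsOpenImmersion m := inferInstance
    have e : pullback.diagonal (j ≫ f) ≫ m = j ≫ pullback.diagonal f := by
      ext <;> simp [m]
    have : O = range (pullback.diagonal (j ≫ f) ≫ m) := by
      rw [e, Scheme.Hom.comp_base, TopCat.coe_comp, Set.range_comp]
      simp [O, j]
    rw [this]
    exact (pullback.diagonal (j ≫ f) ≫ m).isOpenEmbedding.isOpen_range
  let B : Set S := p '' Oᶜ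
  have hB : IsClosed B := p.isClosedMap _ hO.isClosed_compl
  have hsB : s ∉ B := by
    rintro ⟨z, hz, hzs⟩
    haveI : IsIso (MoreMor.fiberMap f g s) := hs
    obtain ⟨x, rfl⟩ := (EGA43Fib.universallyInjective_fmap_iff f g s).1
      (inferInstanceAs (UniversallyInjective (MoreMor.fiberMap f g s))) hzs
    refine hz ⟨x, hUs x ?_, rfl⟩
    rw [← hzs]
    show (f ≫ g) x = (pullback.diagonal f ≫ pullback.fst f f ≫ f ≫ g) x
    rw [pullback.diagonal_fst_assoc]
  -- surjectivity
  let W : Set Y := f '' (U : Set X)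
  have hW : IsOpen W := by
    have : W = range (j ≫ f) := by
      rw [Scheme.Hom.comp_base, TopCat.coe_comp, Set.range_comp]
      simp [W, j]
    rw [this]
    exact (j ≫ f).isOpenMap.isOpen_range
  let C : Set S := g '' Wᶜ
  have hC : IsClosed C := g.isClosedMap _ hW.isClosed_compl
  have hsC : s ∉ C := by
    rintro ⟨y, hy, hys⟩
    haveI : IsIso (MoreMor.fiberMap f g s) := hs
    obtain ⟨x, rfl⟩ := (EGA43Fib.surjective_fmap_iff f g s).1
      (MoreMor.fiberMap f g s).surjective hys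
    exact hy ⟨x, hUs x hys, rfl⟩
  refine ⟨(V₁ : Set S) ∩ Bᶜ ∩ Cᶜ, ?_, (V₁.2.inter hB.isOpen_compl).inter hC.isOpen_compl,
    ⟨⟨hsA, hsB⟩, hsC⟩⟩
  rintro t ⟨⟨htA, htB⟩, htC⟩
  show IsIso (EGA43Fib.fmap f g t)
  rw [FibTop.isIso_iff]
  refine ⟨?_, (EGA43Fib.universallyInjective_fmap_iff f g t).2 fun z hz => ?_,
    (EGA43Fib.surjective_fmap_iff f g t).2 fun y hy => ?_⟩
  · -- etale
    refine (EtStruct.iff_forall_exists_nhd @Etale.{u} _).2 fun x' => ?_
    have sq := EGA43Fib.isPullback_fmap f g t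
    have hxU : pullback.fst (f ≫ g) (S.fromSpecResidueField t) x' ∈ U := by
      by_contra hx
      refine htA ⟨_, hx, ?_⟩
      exact (EGA43Fib.range_fst_fiber (f ≫ g) t).le ⟨x', rfl⟩
    refine ⟨pullback.fst (f ≫ g) (S.fromSpecResidueField t) ⁻¹ᵁ U, hxU, ?_⟩
    exact MorphismProperty.of_isPullback (P := @Etale.{u})
      ((isPullback_morphismRestrict _ U).paste_vert sq) hUe
  · by_contra hne
    exact htB ⟨z, fun ⟨x, _, e⟩ => hne ⟨x, e⟩, hz⟩
  · by_contra hne
    exact htC ⟨y, fun ⟨x, _, e⟩ => hne ⟨x, e⟩, hy⟩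

lemma isClosed_of_stableUnderSpecialization {E : Set S} (hE : IsLocallyConstructible E)
    (h : StableUnderSpecialization E) : IsClosed E := by
  refine isClosed_of_closure_subset fun y hy => ?_
  obtain ⟨e, he, hey⟩ := FDesc.ProConsClosure.exists_specializes_of_mem_closure
    (LimTop.isProConstructible_of_isLocallyConstructible hE) hy
  exact h hey he

end Groth.Agent.PurIso
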